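import Cfsg.Agent.RuR.G

/-! Finite computations in the quadratic space `Q / V`. -/
set_option autoImplicit false
set_option maxRecDepth 100000
set_option maxHeartbeats 0
set_option synthInstance.maxSize 1000000
set_option synthInstance.maxHeartbeats 0

namespace CF.SzS
open CF.Comp CF.RuR

/-- bounded quantifiers with early exit -/
noncomputable local instance (priority := high) decAll (n : ℕ) (p : ℕ → Prop) [DecidablePred p] :
    Decidable (∀ i < n, p i) :=
  decidable_of_iff (allFrom (fun i => decide (p i)) 0 n = true) (by simp [allFrom_iff])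

/-- bounded quantifiers with early exit -/
noncomputable local instance (priority := high) decEx (n : ℕ) (p : ℕ → Prop) [DecidablePred p] :
    Decidable (∃ i < n, p i) :=
  decidable_of_iff (allFrom (fun i => decide (¬ p i)) 0 n = false) (by simp [← Bool.not_eq_true, allFrom_iff])

/-- a bit field -/
def fl (M w i : ℕ) : ℕ := Nat.mod (Nat.shiftRight M (Nat.mul w i)) (Nat.shiftLeft 1 w)
/-- the action of the torus on `V` -/
noncomputable def aV (v : ℕ) : ℕ := lin (nth 0 [2, 4, 3]) 3 v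
/-- the action of the torus on `Q / V` -/
noncomputable def aQ (k : ℕ) : ℕ := lin (nth 0 [2, 4, 3, 16, 32, 40, 64, 128]) 8 k
/-- the relations of `Q` -/
noncomputable def tb (a b m i j : ℕ) : ℕ := nth 0 (nth [] [[a], [0, aV a], [0, 0, aV^[2] a], [b, aV^[2] b, aV^[4] b, 1],
  [aV^[6] b, aV b, aV^[3] b, 4, 2], [aV^[5] b, b, aV^[2] b, 6, 3, 4], [1, 2, 4, 0, 0, 0, 0],
  [m, aV m, aV^[2] m, 0, 0, 0, 0, 0]] i) j
/-- multiplication in the field with eight elements -/
def m8 (a b : ℕ) : ℕ := fl 2821848294356612419217921029917578219971947684264937521152 3 (Nat.add (Nat.mul 8 a) b)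
/-- the squaring map -/
def sF (a b k : ℕ) : ℕ := Nat.xor (Nat.xor (m8 a (Nat.mod k 8))
  (m8 b (fl 4538662448741735397101992572808036111554378619824197599232 3 (Nat.mod k 64))))
  (fl 952655750003983601429852602803333911767035479761936094230096766054744888149062391930943380517999107115452651825644890956315780100283474992754728691654314294626632875191926756968653062244688542276083964925289351239521662882640035840 3 k)
/-- the squaring map for the Rudvalis group -/
def s0 (k : ℕ) : ℕ := fl 778073398834027947523726758122563548302700590571267877411682124474873454543968622848680431721842548498194550350462990990736486718785438625585076033469776462679513946030121413081923818182120305045917682241010420077029104607783004264 3 k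
/-- the polar form -/
def Bf (σ : ℕ → ℕ) (k l : ℕ) : ℕ := Nat.xor (Nat.xor (σ (Nat.xor k l)) (σ k)) (σ l)
/-- the eight distinguished subspaces -/
def rw (i m : ℕ) : ℕ := fl 87070665085595088578960098157572515307173253426652309753456571547069734091008 8
  (Nat.add (Nat.mul 4 i) m)
/-- an invariant of a pair of vectors -/
abbrev ps (a b k l i : ℕ) : Prop := ∃ m < 4, Bf s0 k (rw i m) ≠ 0 ∧ (Bf s0 k (rw i m) = a ∨ Bf s0 k (rw i m) = b ∨
  Bf s0 k (rw i m) = a ^^^ b) ∧ ∃ n < 4, Bf s0 l (rw i n) = Bf s0 k (rw i m)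
/-- the invariant does not depend on the subspace -/
abbrev pc (a b k l : ℕ) : Prop := ∀ i < 7, ps a b k l i ↔ ps a b k l 7

theorem m_cons : ∀ a < 8, ∀ b < 8, ∀ c < 8, aV (aV (aV a)) = a ^^^ c ^^^ aV c →
    aV (aV (aV b)) = b ^^^ (a ^^^ c) ^^^ aV (a ^^^ c) → b = aV^[6] a ∧ c = aV^[5] a ∧
    aV (a ^^^ c ^^^ (c ^^^ (b ^^^ (a ^^^ c)))) = aV^[2] a ∧ aV b = a ∧ aV (aV (c ^^^ (b ^^^ (a ^^^ c)))) = aV^[4] a ∧
    aV (aV (a ^^^ c ^^^ (c ^^^ (b ^^^ (a ^^^ c))))) = aV^[3] a := by decide +kernel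

theorem m_line : ∀ i < 8, ∀ j < 8, (∀ m < 4, lin (nth 0 [i, j]) 2 m = 0 → m = 0) → ∃ m < 4, ∃ n < 4, m ≠ 0 ∧
    lin (nth 0 [i, j]) 2 n = aV (lin (nth 0 [i, j]) 2 m) := by decide +kernel

theorem m_orb : ∀ i < 8, i ≠ 0 → ∃ j < 7, aV^[j] i = 1 := by decide +kernel

/-- the squaring map is nondegenerate -/
abbrev Msq (n m : ℕ) : Prop := ∀ a < 8, ∀ b < 8, ∀ k < 2 ^ n, bil (tb a b m) 8 k k = sF a b k ∧ sF a b k < 8 ∧
    aQ k < 2 ^ n ∧ (sF a b k = 0 → Bf (sF a b) k 64 = 0 → Bf (sF a b) k 1 = 0 → k = 0)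

theorem m_sq : Msq 8 2 := by decide +kernel
theorem m_sq' : Msq 7 0 := by decide +kernel

theorem m_par : ∀ a < 8, ∀ b < 8, ∀ u < 256, Bf (sF a b) u 64 = 1 → sF a b u = 0 → ∀ w < 256, sF a b w = 0 →
    Bf (sF a b) w u = 0 → w ≠ 0 → w ≠ u → (∀ k < 256, Bf (sF a b) k u = 0 → Bf (sF a b) k w = 0 ∧
      (sF a b k = 0 → k = 0 ∨ k = u ∨ k = w ∨ k = w ^^^ u)) → a = 5 ∧ b = 7 ∧ ∃ j < 7, Bf s0 121 (aQ^[j] u) = 0 := by
  decide +kernel

theorem m_s0 : ∀ k < 256, sF 5 7 k = s0 k := by decide +kernel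

theorem m_rw : ∀ i < 8, ∀ k < 256, (s0 k = 0 ∧ Bf s0 k (rw i 1) = 0 ↔ ∃ m < 4, rw i m = k) := by decide +kernel

theorem m_rw1 : ∀ i < 7, rw i 1 = aQ^[i] 121 := by decide +kernel

theorem m_nd : ∀ k < 256, k ≠ 0 → ∀ i < 8, ∃ l < 256, Bf s0 k l = i := by decide +kernel

theorem m_pl : ∀ i < 7, ∃ k < 256, ∃ l < 256, ∃ k' < 256, ∃ l' < 256, Bf s0 k 64 = 0 ∧ Bf s0 l 64 = 0 ∧
    Bf s0 k' (rw i 1) = 0 ∧ Bf s0 l' (rw i 1) = 0 ∧ s0 k = s0 k' ∧ s0 l = s0 l' ∧ s0 (k ^^^ l) ≠ s0 (k' ^^^ l') := by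
  intro i hi
  refine ⟨8, by omega, nth 0 [16, 16, 16, 16, 32, 16, 16] i, ?_, nth 0 [62, 37, 2, 62, 17, 17, 37] i, ?_,
    nth 0 [41, 31, 41, 4, 3, 34, 34] i, ?_, ?_⟩ <;> revert i <;> decide +kernel

/-- candidates for fixed vectors -/
def mk (a k : ℕ) : ℕ := fl 252478538057340926609133369160254213437571115278993188144430212831091013619354547851468140508348691009233913465660771702568070470197654264881462785081524315927256298219067116970741331944550845748985715286968148600293110861941425718175765745471383441470960428870529760437286098297756383411888065169878428128807419891403682663439776205492656610093229161481623401040747133428467747794824942085173889794250240938036776622401058519878672293467859471072102379900286722487578913457061376534557035595437259954126870083280319300426645671006030395034403699833947133546971234671541157859836193631249688001287774991068805726208 1 (Nat.add (Nat.mul 256 a) k)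

theorem m_mk : ∀ a < 8, a ≠ 0 → ∀ k < 256, k ≠ 0 → pc a a k k → mk a k = 1 := by decide +kernel

theorem m_fix : ∀ a < 8, ∀ k < 256, mk a k = 1 → ∀ l < 256, mk a l = 1 → mk a (k ^^^ l) = 1 →
    ∀ b < 8, b ≠ 0 → b ≠ a → pc a b k l → pc a b k (k ^^^ l) → ¬ pc a b l (k ^^^ l) := by
  decide +kernel

theorem m_sub : ∀ c < 4, ∀ m < 4, (rw 7 m >>> 6 = 0 ∨ rw 7 m >>> 6 = c) → ∀ i < 8, ∀ n < 4,
    (rw i n >>> 6 = 0 ∨ rw i n >>> 6 = c) → Bf s0 (rw 7 m) (rw i n) ≠ 0 → ∀ j < 8, ∀ o < 4,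
    (rw j o >>> 6 = 0 ∨ rw j o >>> 6 = c) → Bf s0 (rw 7 m) (rw i n) = Bf s0 (rw 7 m) (rw j o) → rw i n = rw j o := by
  decide +kernel

theorem m_wit : ∀ c < 4, c ≠ 0 → ∃ i < 8, ∃ j < 8, rw 0 c >>> 6 = c ∧ rw i c >>> 6 = c ∧ rw j c >>> 6 = c ∧
    Bf s0 (rw 0 c) (rw i c) ≠ 0 ∧ Bf s0 (rw 0 c) (rw i c) = Bf s0 (rw 0 c) (rw j c) ∧ rw i c ≠ rw j c := by
  decide +kernel

end CF.SzS
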